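import Groth.Agent.FlatnLib.Basic
import Groth.Agent.AmpleThLib.Ample
import Groth.Agent.TwistLib.SpecSections
import Mathlib.AlgebraicGeometry.Morphisms.QuasiFinite

/-!
# Invertible modules are trivial near the fibres of a finite morphism
-/

set_option autoImplicit false
universe u

open CategoryTheory CategoryTheory.Limits AlgebraicGeometry TopologicalSpace Opposite
open AmpleLib

noncomputable section

namespace QuotNormLib

variable {X Y : Scheme.{u}} {M : X.Modules}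

/-- A section multiplied by a function invertible on a given open near `z` only. -/
theorem exists_sec (hM : PicF.IsInvertible M) {W : X.Opens} (hW : IsAffineOpen W) {O : X.Opens} {z : X}
    (hzW : z ∈ W) (hzO : z ∈ O) :
    ∃ σ : Γ(M, W), GenAt M σ hzW ∧ ∀ (x : X) (hx : x ∈ W), x ∉ O → ∀ (U : X.Opens) (e : Γ(M, U)) (hxU : x ∈ U),
      GenOn M e → ∃ c ∈ IsLocalRing.maximalIdeal (X.presheaf.stalk x),
        M.presheaf.germ W x hx σ = c • M.presheaf.germ U x hxU e := by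
  haveI := TwistLib.isQCoh_of_isInvertible hM
  obtain ⟨U₀, e₀, hzU₀, he₀⟩ := TwistLib.exists_genOn hM z
  obtain ⟨a, ha, hza⟩ := hW.exists_basicOpen_le (V := O ⊓ U₀) ⟨z, hzO, hzU₀⟩ hzW
  letI : Module Γ(X, W) Γ(M, X.basicOpen a) :=
    Module.compHom _ (X.presheaf.map (homOfLE (X.basicOpen_le a)).op).hom
  let ρ : Γ(M, W) →ₗ[Γ(X, W)] Γ(M, X.basicOpen a) :=
    { toFun := fun m => res M (X.basicOpen_le a) m
      map_add' := fun p q => map_add _ p q
      map_smul' := fun r m => res_smul M (X.basicOpen_le a) r m }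
  haveI := FlatnLib.isLocalizedModule_res M hW a (fun _ _ => rfl) ρ (fun _ => rfl)
  obtain ⟨⟨σ, ⟨_, k, rfl⟩⟩, hσ⟩ := IsLocalizedModule.surj (Submonoid.powers a) ρ
    (res M (ha.trans inf_le_right) e₀)
  have hσ' : X.presheaf.map (homOfLE (X.basicOpen_le a)).op (a ^ k) • res M (ha.trans inf_le_right) e₀ =
      res M (X.basicOpen_le a) σ := hσ
  have hu : IsUnit (X.presheaf.germ W z hzW a) := (Scheme.mem_basicOpen X a z hzW).1 hza
  refine ⟨a • σ, ?_, fun x hx hxO U e hxU he => ?_⟩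
  · have e1 := congrArg (M.presheaf.germ (X.basicOpen a) z hza) hσ'
    rw [germ_smul, germ_res, germ_res, TopCat.Presheaf.germ_res_apply] at e1
    have hg : M.presheaf.germ W z hzW (a • σ) =
        (X.presheaf.germ W z hzW a * X.presheaf.germ W z hzW (a ^ k)) • M.presheaf.germ U₀ z hzU₀ e₀ := by
      rw [germ_smul, ← e1, mul_smul]
    obtain ⟨c, hc⟩ := hu.mul (show IsUnit (X.presheaf.germ W z hzW (a ^ k)) by rw [map_pow]; exact hu.pow k)
    have hb := he₀.genAt hzU₀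
    show Function.Bijective fun r : X.presheaf.stalk z => r • M.presheaf.germ W z hzW (a • σ)
    have : (fun r : X.presheaf.stalk z => r • M.presheaf.germ W z hzW (a • σ)) =
        (fun r => r • M.presheaf.germ U₀ z hzU₀ e₀) ∘ fun r => r * (c : X.presheaf.stalk z) := by
      funext r
      simp only [Function.comp_apply, hg, ← hc, smul_smul]
    rw [this]
    exact Function.Bijective.comp hb (Units.mulRight_bijective c)
  · obtain ⟨c, hc⟩ := (he.genAt hxU).2 (M.presheaf.germ W x hx σ)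
    refine ⟨X.presheaf.germ W x hx a * c, Ideal.mul_mem_right _ _ fun hu' => hxO ?_, ?_⟩
    · exact (ha ((Scheme.mem_basicOpen X a x hx).2 hu')).1
    · rw [germ_smul, mul_smul]
      exact congrArg (_ • ·) hc.symm

/-- Finitely many incomparable points of an affine open admit a common generator. -/
theorem exists_gen_finite (hM : PicF.IsInvertible M) {W : X.Opens} (hW : IsAffineOpen W) (Z : Finset X)
    (hZW : ∀ z ∈ Z, z ∈ W) (hsp : ∀ z ∈ Z, ∀ z' ∈ Z, z ⤳ z' → z = z') :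
    ∃ σ : Γ(M, W), ∀ (z : X) (hz : z ∈ Z), GenAt M σ (hZW z hz) := by
  classical
  have hO : ∀ z : Z, ∃ O : X.Opens, z.1 ∈ O ∧ ∀ z' ∈ Z, z' ≠ z.1 → z' ∉ O := by
    intro z
    refine ⟨⟨(⋃ z' ∈ (Z.erase z.1 : Set X), closure {z'})ᶜ,
      (Set.Finite.isClosed_biUnion (Finset.finite_toSet _) fun _ _ => isClosed_closure).isOpen_compl⟩, ?_, ?_⟩
    · simp only [Opens.mem_mk, Set.mem_compl_iff, Set.mem_iUnion]
      rintro ⟨z', hz', hcl⟩
      have hz'' := Finset.mem_erase.1 hz'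
      exact hz''.1 (hsp z' hz''.2 z.1 z.2 (specializes_iff_mem_closure.2 hcl))
    · intro z' hz' hne h
      simp only [Opens.mem_mk, Set.mem_compl_iff, Set.mem_iUnion] at h
      exact h ⟨z', Finset.mem_erase.2 ⟨hne, hz'⟩, subset_closure rfl⟩
  choose O hzO hO using hO
  choose σ hσ hσ' using fun z : Z => exists_sec hM hW (hZW z.1 z.2) (hzO z)
  refine ⟨∑ z : Z, σ z, fun z hz => ?_⟩
  obtain ⟨U, e, hzU, he⟩ := TwistLib.exists_genOn hM z
  have hc : ∀ b : Z, ∃ c : X.presheaf.stalk z,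
      M.presheaf.germ W z (hZW z hz) (σ b) = c • M.presheaf.germ U z hzU e ∧
      (b ≠ ⟨z, hz⟩ → c ∈ IsLocalRing.maximalIdeal (X.presheaf.stalk z)) := by
    intro b
    by_cases hb : b = ⟨z, hz⟩
    · obtain ⟨c, hc⟩ := (he.genAt hzU).2 (M.presheaf.germ W z (hZW z hz) (σ b))
      exact ⟨c, hc.symm, fun h => absurd hb h⟩
    · obtain ⟨c, hc, e'⟩ := hσ' b z (hZW z hz) (hO b z hz fun h => hb (Subtype.ext h.symm)) U e hzU he
      exact ⟨c, e', fun _ => hc⟩
  choose c hc hm using hc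
  have hu₀ : IsUnit (c ⟨z, hz⟩) := by
    obtain ⟨r, hr⟩ := (hσ ⟨z, hz⟩).2 (M.presheaf.germ U z hzU e)
    refine IsUnit.of_mul_eq_one (a := c ⟨z, hz⟩) r ((he.genAt hzU).1 ?_)
    dsimp only at hr ⊢
    rw [one_smul, mul_comm, mul_smul, ← hc]
    exact hr
  have hu : IsUnit (∑ b, c b) := by
    rw [← Finset.add_sum_erase _ _ (Finset.mem_univ (⟨z, hz⟩ : Z))]
    have hm' : ∑ b ∈ Finset.univ.erase ⟨z, hz⟩, c b ∈ IsLocalRing.maximalIdeal (X.presheaf.stalk z) :=
      Ideal.sum_mem _ fun b hb => hm b (Finset.ne_of_mem_erase hb)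
    by_contra h
    have h2 : c ⟨z, hz⟩ ∈ IsLocalRing.maximalIdeal (X.presheaf.stalk z) := by
      simpa using Ideal.sub_mem _ (show _ + _ ∈ IsLocalRing.maximalIdeal (X.presheaf.stalk z) from h) hm'
    exact h2 hu₀
  obtain ⟨v, hv⟩ := hu
  have hg : M.presheaf.germ W z (hZW z hz) (∑ b, σ b) = (v : X.presheaf.stalk z) • M.presheaf.germ U z hzU e := by
    rw [hv, Finset.sum_smul, map_sum]
    exact Finset.sum_congr rfl fun b _ => hc b
  show Function.Bijective fun r : X.presheaf.stalk z => r • M.presheaf.germ W z (hZW z hz) (∑ b, σ b)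
  have : (fun r : X.presheaf.stalk z => r • M.presheaf.germ W z (hZW z hz) (∑ b, σ b)) =
      (fun r => r • M.presheaf.germ U z hzU e) ∘ fun r => r * (v : X.presheaf.stalk z) := by
    funext r
    simp only [Function.comp_apply, hg, smul_smul]
  rw [this]
  exact Function.Bijective.comp (he.genAt hzU) (Units.mulRight_bijective v)

/-- Near a generator at a point a section generates. -/
theorem exists_genAt_nhd (hM : PicF.IsInvertible M) {W : X.Opens} (σ : Γ(M, W)) {x : X} (hx : x ∈ W)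
    (h : GenAt M σ hx) :
    ∃ O : X.Opens, x ∈ O ∧ O ≤ W ∧ ∀ (y : X) (hy : y ∈ W), y ∈ O → GenAt M σ hy := by
  obtain ⟨U, e, hxU, he⟩ := TwistLib.exists_genOn hM x
  obtain ⟨r, hr⟩ := (he (W ⊓ U) inf_le_right).2 (res M inf_le_left σ)
  dsimp only at hr
  have hiff : ∀ (y : X) (hy : y ∈ W) (hyU : y ∈ U),
      (fun c : X.presheaf.stalk y => c • M.presheaf.germ W y hy σ) =
      (fun c => c • M.presheaf.germ U y hyU e) ∘ fun c => c * X.presheaf.germ (W ⊓ U) y ⟨hy, hyU⟩ r := by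
    intro y hy hyU
    have hT : y ∈ W ⊓ U := ⟨hy, hyU⟩
    have e' : X.presheaf.germ (W ⊓ U) y hT r • M.presheaf.germ U y hyU e = M.presheaf.germ W y hy σ :=
      (congrArg (_ • ·) (AmpleLib.germ_res M inf_le_right e hT)).symm.trans
        ((AmpleLib.germ_smul M r _ hT).symm.trans
          ((congrArg (M.presheaf.germ (W ⊓ U) y hT) hr).trans (AmpleLib.germ_res M inf_le_left σ hT)))
    funext c
    simp only [Function.comp_apply, ← e', smul_smul]
  have hxr : x ∈ X.basicOpen r := by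
    have hT : x ∈ W ⊓ U := ⟨hx, hxU⟩
    rw [Scheme.mem_basicOpen X r x hT]
    have h' := h
    unfold GenAt at h'
    rw [hiff x hx hxU] at h'
    obtain ⟨c, hc⟩ := (((Function.Bijective.of_comp_iff' (he.genAt hxU) _).1 h')).2 (1 : X.presheaf.stalk x)
    exact IsUnit.of_mul_eq_one (a := X.presheaf.germ _ x hT r) c (by rw [mul_comm]; exact hc)
  refine ⟨X.basicOpen r, hxr, (X.basicOpen_le r).trans inf_le_left, fun y hy hyr => ?_⟩
  have hyU : y ∈ U := (X.basicOpen_le r hyr).2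
  unfold GenAt
  rw [hiff y hy hyU]
  have hT : y ∈ W ⊓ U := ⟨hy, hyU⟩
  obtain ⟨v, hv⟩ := (Scheme.mem_basicOpen X r y hT).1 hyr
  rw [← hv]
  exact Function.Bijective.comp (he.genAt hyU) (Units.mulRight_bijective v)

/-- An invertible module is trivial on the inverse image of a neighbourhood of each point, for a finite
morphism. -/
theorem exists_genOn_saturated (π : X ⟶ Y) [IsFinite π] (hM : PicF.IsInvertible M) (y : Y) :
    ∃ V : Y.Opens, y ∈ V ∧ IsAffineOpen V ∧ ∃ e : Γ(M, π ⁻¹ᵁ V), GenOn M e := by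
  classical
  obtain ⟨U, hU, hyU, -⟩ := exists_isAffineOpen_mem_and_subset (x := y) (U := (⊤ : Y.Opens)) trivial
  have hW : IsAffineOpen (π ⁻¹ᵁ U) := hU.preimage π
  let Z : Finset X := (π.finite_preimage_singleton y).toFinset
  have hZ : ∀ z ∈ Z, π z = y := fun z hz => (π.finite_preimage_singleton y).mem_toFinset.1 hz
  have hsp : ∀ z ∈ Z, ∀ z' ∈ Z, z ⤳ z' → z = z' := by
    intro z hz z' hz' h
    haveI : DiscreteTopology (π ⁻¹' {y} : Set X) :=
      isDiscrete_iff_discreteTopology.mp (π.isDiscrete_preimage_singleton y)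
    have h' : (⟨z, hZ z hz⟩ : (π ⁻¹' {y} : Set X)) ⤳ ⟨z', hZ z' hz'⟩ := (subtype_specializes_iff _ _).2 h
    exact congrArg Subtype.val h'.eq
  obtain ⟨σ, hσ⟩ := exists_gen_finite hM hW Z (fun z hz => show π z ∈ U from (hZ z hz).symm ▸ hyU) hsp
  choose O hO hOW hgen using fun z : Z => exists_genAt_nhd hM σ _ (hσ z.1 z.2)
  let G : X.Opens := ⨆ z, O z
  let V₀ : Y.Opens := U ⊓ ⟨(π '' (G : Set X)ᶜ)ᶜ, (π.isClosedMap _ G.2.isClosed_compl).isOpen_compl⟩
  have hy : y ∈ V₀ := ⟨hyU, fun ⟨x, hx, hxy⟩ => hx (Opens.mem_iSup.2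
    ⟨⟨x, (π.finite_preimage_singleton y).mem_toFinset.2 hxy⟩, hO _⟩)⟩
  obtain ⟨V, hV, hyV, hVle⟩ := exists_isAffineOpen_mem_and_subset (x := y) (U := V₀) hy
  have hle : π ⁻¹ᵁ V ≤ π ⁻¹ᵁ U := fun x hx => (hVle hx).1
  refine ⟨V, hyV, hV, res M hle σ, TwistLib.genOn_of_genAt fun x hx => ?_⟩
  have hxG : x ∈ G := by
    by_contra h
    exact (hVle hx).2 ⟨x, h, rfl⟩
  obtain ⟨z, hz⟩ := Opens.mem_iSup.1 hxG
  exact (genAt_res hle σ hx).2 (hgen z x (hle hx) hz)

end QuotNormLib
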