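import Groth.Agent.NormDescLib.Cocycle

/-!
# Invertible modules from transition functions
-/

set_option autoImplicit false
universe u

open CategoryTheory CategoryTheory.Limits AlgebraicGeometry TopologicalSpace Opposite
open AmpleLib (res GenOn)
open DiscExtLib (triv cut cut_le cut_le_left cut_mono le_cut fn pi_sections)
open NormDescLib (tuples tc rY rY_rY rY_mul tc_res tc_smul tc_sub tc_zero exists_tuple tuple_ext)

noncomputable section

namespace QuotNormLib

variable {Y : Scheme.{u}} {ι : Type u} (V : ι → Y.Opens) (C : ∀ i j : ι, Γ(Y, V i ⊓ V j))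

theorem cut_inf_le {W : Y.Opens} (i j : ι) : cut (V i) W ⊓ cut (V j) W ≤ V i ⊓ V j :=
  inf_le_inf (cut_le_left _ _) (cut_le_left _ _)

/-- The tuples transforming by the transition functions. -/
def twist : QCohLib.LocSub (tuples V) where
  mem W a := ∀ i j, rY (inf_le_left : cut (V i) W ⊓ cut (V j) W ≤ cut (V i) W) (tc V i a) =
    rY (cut_inf_le V i j) (C i j) * rY (inf_le_right : cut (V i) W ⊓ cut (V j) W ≤ cut (V j) W) (tc V j a)
  zero W i j := by
    rw [tc_zero, tc_zero]
    simp [rY]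
  add {W a b} ha hb i j := by
    have e : ∀ k, tc V k (a + b) = tc V k a + tc V k b := fun k =>
      map_add ((Pi.π (fun i => triv (V i)) k).app W).hom a b
    simp only [rY, e, map_add, mul_add] at *
    rw [ha i j, hb i j]
  smul {W} r {a} ha i j := by
    rw [tc_smul, tc_smul, rY_mul, rY_mul, rY_rY, rY_rY, ha i j, mul_left_comm]
  res {W W'} h {a} ha i j := by
    have := congrArg (rY (inf_le_inf (cut_mono (V i) h) (cut_mono (V j) h))) (ha i j)
    rw [rY_mul, rY_rY, rY_rY, rY_rY] at this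
    show rY _ (tc V i (res (tuples V) h a)) = _ * rY _ (tc V j (res (tuples V) h a))
    rw [tc_res, tc_res, rY_rY, rY_rY]
    exact this
  local' {W} a ha i j := by
    refine TopCat.Presheaf.section_ext Y.sheaf _ _ _ fun y hy => ?_
    obtain ⟨W', h, hyW', hm⟩ := ha y (cut_le _ _ hy.1)
    have hm' : rY (inf_le_left : cut (V i) W' ⊓ cut (V j) W' ≤ cut (V i) W') (tc V i (res (tuples V) h a)) =
        rY (cut_inf_le V i j) (C i j) *
          rY (inf_le_right : cut (V i) W' ⊓ cut (V j) W' ≤ cut (V j) W') (tc V j (res (tuples V) h a)) := hm i j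
    rw [tc_res, tc_res, rY_rY, rY_rY] at hm'
    have hy' : y ∈ cut (V i) W' ⊓ cut (V j) W' :=
      ⟨le_cut _ _ ⟨hyW', cut_le_left _ _ hy.1⟩, le_cut _ _ ⟨hyW', cut_le_left _ _ hy.2⟩⟩
    have h' := congrArg (Y.presheaf.germ _ y hy') hm'
    change Y.presheaf.germ _ y hy _ = Y.presheaf.germ _ y hy _
    simp only [rY, map_mul, TopCat.Presheaf.germ_res_apply] at h' ⊢
    exact h'

variable {V C}

/-- An invertible module with local generators related by given transition functions. -/
theorem exists_invertible_of_transition (hcov : ∀ y : Y, ∃ i, y ∈ V i)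
    (hone : ∀ i (W : Y.Opens) (h : W ≤ V i ⊓ V i), rY h (C i i) = 1)
    (hcoc : ∀ (i j k : ι) (W : Y.Opens) (hij : W ≤ V i ⊓ V j) (hjk : W ≤ V j ⊓ V k) (hik : W ≤ V i ⊓ V k),
      rY hij (C i j) * rY hjk (C j k) = rY hik (C i k)) :
    ∃ (M : Y.Modules) (_ : PicF.IsInvertible M) (g : ∀ i, Γ(M, V i)), (∀ i, GenOn M (g i)) ∧
      ∀ (i j : ι) (W : Y.Opens) (hi : W ≤ V i) (hj : W ≤ V j),
        rY (le_inf hi hj) (C i j) • res M hi (g i) = res M hj (g j) := by
  let S := twist V C
  have hcut : ∀ i j : ι, cut (V i) (V j) ≤ V i ⊓ V j := fun i j =>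
    le_inf (cut_le_left _ _) (cut_le _ _)
  choose t ht using fun j => exists_tuple V (W := V j) fun i => rY (hcut i j) (C i j)
  have hmem : ∀ j, S.mem (V j) (t j) := fun j i k => by
    rw [ht j i, ht j k, rY_rY, rY_rY]
    exact (hcoc i k j _ (cut_inf_le V i k) _ _).symm
  let g : ∀ j, Γ(S.toModules, V j) := fun j => S.lift (t j) (hmem j)
  have hg : ∀ j (W : Y.Opens) (hW : W ≤ V j) i, tc V i (S.ι.app W (res S.toModules hW (g j))) =
      rY (le_inf (cut_le_left (V i) W) ((cut_le _ _).trans hW)) (C i j) := fun j W hW i => by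
    rw [show S.ι.app W (res S.toModules hW (g j)) = res (tuples V) hW (t j) from
      QCohLib.app_map S.ι (homOfLE hW) (g j), tc_res, ht j i, rY_rY]
  have hsm : ∀ j (W : Y.Opens) (hW : W ≤ V j) (r : Γ(Y, W)) i,
      tc V i (S.ι.app W (r • res S.toModules hW (g j))) =
      rY (cut_le (V i) W) r * rY (le_inf (cut_le_left (V i) W) ((cut_le _ _).trans hW)) (C i j) :=
    fun j W hW r i => by rw [QCohLib.app_smul, tc_smul, hg]
  have hkey : ∀ j (W : Y.Opens), W ≤ V j → ∀ a : Γ(tuples V, W), S.mem W a → tc V j a = 0 → a = 0 :=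
    fun j W hW a ha h0 => tuple_ext V fun i => by
      rw [tc_zero]
      have h1 := ha i j
      rw [h0] at h1
      have hle : cut (V i) W ≤ cut (V i) W ⊓ cut (V j) W :=
        le_inf le_rfl ((le_inf (cut_le _ _) ((cut_le _ _).trans hW)).trans (le_cut (V j) W))
      have h2 := congrArg (rY hle) h1
      rw [rY_mul, rY_rY, rY_rY, rY_rY, show rY (hle.trans inf_le_right) (0 : Γ(Y, cut (V j) W)) = 0 from map_zero _,
        mul_zero] at h2
      exact (AmpleLib.res_refl (Coh.structureModule Y) (tc V i a)).symm.trans h2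
  have hgen : ∀ j, GenOn S.toModules (g j) := by
    intro j W hW
    have hle : W ≤ cut (V j) W := (le_inf le_rfl hW).trans (le_cut (V j) W)
    have hre : ∀ r : Γ(Y, W), rY hle (rY (cut_le (V j) W) r) = r := fun r =>
      (rY_rY _ _ r).trans (AmpleLib.res_refl (Coh.structureModule Y) r)
    have hi : ∀ r : Γ(Y, W), tc V j (S.ι.app W (r • res S.toModules hW (g j))) = rY (cut_le (V j) W) r := fun r => by
      rw [hsm, hone, mul_one]
    refine ⟨fun r r' e => ?_, fun s => ?_⟩
    · have := congrArg (fun z => rY hle (tc V j (S.ι.app W z))) e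
      simpa only [hi, hre] using this
    · refine ⟨rY hle (tc V j (S.ι.app W s)), S.ι_app_injective W (sub_eq_zero.mp ?_).symm⟩
      refine hkey j W hW _ ((S.sub W).sub_mem (S.ι_app_mem s) (S.ι_app_mem _)) ?_
      rw [tc_sub, hi, sub_eq_zero, rY_rY]
      exact (AmpleLib.res_refl (Coh.structureModule Y) _).symm
  refine ⟨S.toModules, TwistLib.isInvertible_of_genOn V hcov g hgen, g, hgen, fun i j W hi hj => ?_⟩
  refine S.ι_app_injective W (sub_eq_zero.mp ?_)
  refine hkey i W hi _ ((S.sub W).sub_mem (S.ι_app_mem _) (S.ι_app_mem _)) ?_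
  rw [tc_sub, hsm, hg, hone, mul_one, sub_eq_zero, rY_rY]

end QuotNormLib
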