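import Groth.Agent.QuotLib.Props
import Groth.Prelude.Def_Fitting

/-!
# The norm of a quotient by a finite group
-/

set_option autoImplicit false
set_option backward.isDefEq.respectTransparency false
universe u

open CategoryTheory AlgebraicGeometry TopologicalSpace Opposite

noncomputable section

namespace QuotNormLib

variable {X Y : Scheme.{u}} {G : Type u} [Group G] {ρ : G →* Aut X} {p : X ⟶ Y}

/-- The action on functions on a saturated open. -/
def act (hp : SGA1.IsQuot ρ p) (g : G) (U : Y.Opens) : Γ(X, p ⁻¹ᵁ U) →+* Γ(X, p ⁻¹ᵁ U) :=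
  ((ρ g).hom.appLE (p ⁻¹ᵁ U) (p ⁻¹ᵁ U) (SGA1.preimage_le_of_inv ρ p hp.inv g U)).hom

theorem appLE_congr_hom {f f' : X ⟶ X} (h : f = f') (U : X.Opens) (hU : U ≤ f ⁻¹ᵁ U) :
    f.appLE U U hU = f'.appLE U U (h ▸ hU) := by
  subst h
  rfl

theorem act_one (hp : SGA1.IsQuot ρ p) (U : Y.Opens) (s : Γ(X, p ⁻¹ᵁ U)) : act hp 1 U s = s := by
  have h : (ρ 1).hom = 𝟙 X := by rw [map_one]; rfl
  show ((ρ 1).hom.appLE _ _ _).hom s = s
  rw [appLE_congr_hom h]
  have e : (𝟙 X : X ⟶ X).appLE (p ⁻¹ᵁ U) (p ⁻¹ᵁ U) le_rfl = 𝟙 _ := by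
    rw [Scheme.Hom.appLE, Scheme.Hom.id_app]
    exact (Category.id_comp _).trans (X.presheaf.map_id _)
  exact congr($(e).hom s)

theorem act_mul (hp : SGA1.IsQuot ρ p) (g h : G) (U : Y.Opens) (s : Γ(X, p ⁻¹ᵁ U)) :
    act hp (g * h) U s = act hp h U (act hp g U s) := by
  have e : (ρ (g * h)).hom = (ρ h).hom ≫ (ρ g).hom := by rw [map_mul]; rfl
  show ((ρ (g * h)).hom.appLE _ _ _).hom s = _
  rw [appLE_congr_hom e]
  exact congr($((Scheme.Hom.appLE_comp_appLE (ρ h).hom (ρ g).hom (p ⁻¹ᵁ U) (p ⁻¹ᵁ U) (p ⁻¹ᵁ U)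
    (SGA1.preimage_le_of_inv ρ p hp.inv g U) (SGA1.preimage_le_of_inv ρ p hp.inv h U)).symm).hom s)

theorem act_res (hp : SGA1.IsQuot ρ p) (g : G) {U V : Y.Opens} (i : V ≤ U) (s : Γ(X, p ⁻¹ᵁ U)) :
    X.presheaf.map (homOfLE (p.preimage_mono i)).op (act hp g U s) =
      act hp g V (X.presheaf.map (homOfLE (p.preimage_mono i)).op s) := by
  have h1 := Scheme.Hom.appLE_map (ρ g).hom (SGA1.preimage_le_of_inv ρ p hp.inv g U) (homOfLE (p.preimage_mono i)).op
  have h2 := Scheme.Hom.map_appLE (ρ g).hom (SGA1.preimage_le_of_inv ρ p hp.inv g V) (homOfLE (p.preimage_mono i)).op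
  exact congr($(h1.trans h2.symm).hom s)

theorem act_app (hp : SGA1.IsQuot ρ p) (g : G) (U : Y.Opens) (a : Γ(Y, U)) :
    act hp g U (p.app U a) = p.app U a :=
  (hp.range_iff U _).1 ⟨a, rfl⟩ g

variable [Fintype G]

theorem exists_norm (hp : SGA1.IsQuot ρ p) (U : Y.Opens) (s : Γ(X, p ⁻¹ᵁ U)) :
    ∃ t : Γ(Y, U), p.app U t = ∏ g : G, act hp g U s := by
  obtain ⟨t, ht⟩ := (hp.range_iff U (∏ g : G, act hp g U s)).2 fun h => by
    show act hp h U _ = _
    rw [map_prod]
    simp only [← act_mul]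
    exact Equiv.prod_comp (Equiv.mulRight h) (fun g => act hp g U s)
  exact ⟨t, ht⟩

/-- A quotient by a finite group has a norm of degree the order of the group. -/
def quotNorm (hp : SGA1.IsQuot ρ p) : Nrm.NormOfDegree p (Nat.card G) :=
  have hN : ∀ (U : Y.Opens) (s : Γ(X, p ⁻¹ᵁ U)), p.app U (exists_norm hp U s).choose = ∏ g : G, act hp g U s :=
    fun U s => (exists_norm hp U s).choose_spec
  { one_le := Nat.card_pos
    norm := fun U =>
      { toFun := fun s => (exists_norm hp U s).choose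
        map_one' := hp.injective U ((hN U 1).trans (by simp))
        map_mul' := fun a b => hp.injective U (by
          rw [hN, map_mul, hN, hN, ← Finset.prod_mul_distrib]
          exact Finset.prod_congr rfl fun g _ => map_mul _ a b) }
    norm_res := fun {U V} i s => by
      refine hp.injective V ?_
      refine Eq.trans ?_ (hN V _).symm
      refine (congr($(p.naturality i.op).hom (exists_norm hp U s).choose)).trans ?_
      show X.presheaf.map (homOfLE (p.preimage_mono i.le)).op (p.app U (exists_norm hp U s).choose) = _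
      rw [hN, map_prod]
      exact Finset.prod_congr rfl fun g _ => act_res hp g i.le s
    norm_app := fun U a => hp.injective U (by
      refine (hN U _).trans ?_
      rw [Finset.prod_congr rfl fun g _ => act_app hp g U a, Finset.prod_const, map_pow, Finset.card_univ,
        Fintype.card_eq_nat_card])
    norm_mem := fun U s x hx hs => by
      intro hu
      have h1 := hu.map (p.stalkMap x).hom
      rw [Scheme.Hom.germ_stalkMap_apply] at h1
      erw [hN] at h1
      rw [map_prod] at h1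
      have h2 := (IsUnit.prod_iff.1 h1) 1 (Finset.mem_univ _)
      rw [act_one] at h2
      exact hs h2 }

omit [Fintype G] in
theorem hasNorm_morphismRestrict [Finite G] (hp : SGA1.IsQuot ρ p) (U : Y.Opens) :
    ∃ d, Nrm.HasNorm (p ∣_ U) d :=
  letI := Fintype.ofFinite G
  ⟨Nat.card G, ⟨quotNorm (QuotLib.isQuot_restrictAct hp U)⟩⟩

end QuotNormLib
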