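import Groth.Agent.QuotNormLib.Saturated
import Groth.Agent.QuotNormLib.Twist
import Groth.Agent.QuotNormLib.Norm
import Groth.Agent.NormDescLib.Relative
import Groth.Agent.S4384

/-!
# Relatively ample modules descend to quotients by finite groups
-/

set_option autoImplicit false
set_option backward.isDefEq.respectTransparency false
set_option backward.isDefEq.respectTransparency.types false
universe u

open CategoryTheory CategoryTheory.Limits AlgebraicGeometry TopologicalSpace Opposite
open AmpleLib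
open KFlatLib (pb puSec)
open NormDescLib (rY rs rs_rs norm_rs)

noncomputable section

namespace QuotNormLib

variable {X Y S : Scheme.{u}} {G : Type u} [Group G] {ρ : G →* Aut X} {p : X ⟶ Y}

theorem act_rs (hp : SGA1.IsQuot ρ p) (g : G) {U V : Y.Opens} (i : V ≤ U) (s : Γ(X, p ⁻¹ᵁ U)) :
    rs (p.preimage_mono i) (act hp g U s) = act hp g V (rs (p.preimage_mono i) s) := act_res hp g i s

variable [Fintype G]

theorem app_quotNorm (hp : SGA1.IsQuot ρ p) (U : Y.Opens) (s : Γ(X, p ⁻¹ᵁ U)) :
    p.app U ((quotNorm hp).norm U s) = ∏ g : G, act hp g U s :=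
  (exists_norm hp U s).choose_spec

/-- Tensor products of translates of a relatively ample module, with their generators. -/
theorem exists_tensor_translates (hp : SGA1.IsQuot ρ p) (f : X ⟶ S) [QuasiCompact f]
    (hρ : ∀ g : G, (ρ g).hom ≫ f = f) {L : X.Modules} (hL : RelAmple.IsRelAmple f L) {ι : Type u}
    (V : ι → Y.Opens) (e : ∀ i, Γ(L, p ⁻¹ᵁ V i)) (he : ∀ i, GenOn L (e i))
    (t : Finset G) (ht : t.Nonempty) :
    ∃ (A : X.Modules), PicF.IsInvertible A ∧ RelAmple.IsRelAmple f A ∧
      ∃ a : ∀ i, Γ(A, p ⁻¹ᵁ V i), (∀ i, GenOn A (a i)) ∧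
        ∀ (i j : ι) (W : Y.Opens) (hi : W ≤ V i) (hj : W ≤ V j) (u : Γ(X, p ⁻¹ᵁ W)),
          u • res L (p.preimage_mono hi) (e i) = res L (p.preimage_mono hj) (e j) →
          (∏ g ∈ t, act hp g W u) • res A (p.preimage_mono hi) (a i) = res A (p.preimage_mono hj) (a j) := by
  have hLi := MiscFlat6.invertible_of_relAmple hL
  have single : ∀ g : G, ∃ (A : X.Modules), PicF.IsInvertible A ∧ RelAmple.IsRelAmple f A ∧
      ∃ a : ∀ i, Γ(A, p ⁻¹ᵁ V i), (∀ i, GenOn A (a i)) ∧
        ∀ (i j : ι) (W : Y.Opens) (hi : W ≤ V i) (hj : W ≤ V j) (u : Γ(X, p ⁻¹ᵁ W)),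
          u • res L (p.preimage_mono hi) (e i) = res L (p.preimage_mono hj) (e j) →
          act hp g W u • res A (p.preimage_mono hi) (a i) = res A (p.preimage_mono hj) (a j) := by
    intro g
    haveI : IsIso (ρ g).hom := Iso.isIso_hom (ρ g)
    have hle : ∀ U : Y.Opens, p ⁻¹ᵁ U ≤ (ρ g).hom ⁻¹ᵁ (p ⁻¹ᵁ U) := SGA1.preimage_le_of_inv ρ p hp.inv g
    refine ⟨pb (ρ g).hom L, AmpleDevLib.isInvertible_pb _ hLi, ?_,
      fun i => res (pb (ρ g).hom L) (hle (V i)) (puSec (ρ g).hom (e i)),
      fun i => (AmpleDevLib.puSec_genOn _ (he i)).res _, fun i j W hi hj u h => ?_⟩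
    · have h := NormDescLib.relAmple_pb (ρ g).hom f hL
      rwa [hρ g] at h
    · have h1 := congrArg (fun s => res (pb (ρ g).hom L) (hle W) (puSec (ρ g).hom s)) h
      try dsimp only at h1
      rw [TwistLib.puSec_smul, res_smul, TwistLib.puSec_res, TwistLib.puSec_res, res_res, res_res] at h1
      rw [res_res, res_res]
      exact h1
  induction ht using Finset.Nonempty.cons_induction with
  | singleton g =>
    obtain ⟨A, hA, hA', a, ha, ha'⟩ := single g
    exact ⟨A, hA, hA', a, ha, fun i j W hi hj u h => by rw [Finset.prod_singleton]; exact ha' i j W hi hj u h⟩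
  | cons g t hg ht ih =>
    obtain ⟨A, hA, hA', a, ha, ha'⟩ := single g
    obtain ⟨B, hB, hB', b, hb, hb'⟩ := ih
    refine ⟨CohB1.tensorMod A B, AmpleThLib.shT_isInvertible hA hB, Groth.Agent.S4384.result f A B hA' hB',
      fun i => shT (a i) (b i), fun i => AmpleThLib.shT_genOn (ha i) (hb i), fun i j W hi hj u h => ?_⟩
    rw [Finset.prod_cons, shT_res, shT_res, ← ha' i j W hi hj u h, ← hb' i j W hi hj u h, AmpleLib.shT_smul]

/-- A relatively ample module gives a relatively ample module on the quotient. -/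
theorem exists_relAmple_quot (hp : SGA1.IsQuot ρ p) [IsFinite p] (f : X ⟶ S) [QuasiCompact f]
    (h : Y ⟶ S) [QuasiCompact h] (hfac : p ≫ h = f)
    (hρ : ∀ g : G, (ρ g).hom ≫ f = f) {L : X.Modules} (hL : RelAmple.IsRelAmple f L) :
    ∃ M : Y.Modules, RelAmple.IsRelAmple h M := by
  have hLi := MiscFlat6.invertible_of_relAmple hL
  choose V hyV _ e he using fun y : Y => exists_genOn_saturated p hLi y
  choose u hu using fun i j : Y => (he i (p ⁻¹ᵁ (V i ⊓ V j)) (p.preimage_mono inf_le_left)).2
    (res L (p.preimage_mono inf_le_right) (e j))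
  dsimp only at hu
  let N := quotNorm hp
  let C : ∀ i j : Y, Γ(Y, V i ⊓ V j) := fun i j => N.norm _ (u i j)
  have hrel : ∀ (i j : Y) (W : Y.Opens) (hi : W ≤ V i) (hj : W ≤ V j),
      rs (p.preimage_mono (le_inf hi hj)) (u i j) • res L (p.preimage_mono hi) (e i) =
        res L (p.preimage_mono hj) (e j) := fun i j W hi hj => by
    have := congrArg (res L (p.preimage_mono (le_inf hi hj))) (hu i j)
    rwa [res_smul, res_res, res_res] at this
  have hC : ∀ (i j : Y) (W : Y.Opens) (h : W ≤ V i ⊓ V j),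
      rY h (C i j) = N.norm W (rs (p.preimage_mono h) (u i j)) := fun i j W h => norm_rs N h _
  obtain ⟨M, hM, g, hg, hgr⟩ := exists_invertible_of_transition (V := V) (C := C) (fun y => ⟨y, hyV y⟩)
    (fun i W h => by
      rw [hC]
      have : rs (p.preimage_mono h) (u i i) = 1 := by
        refine (he i (p ⁻¹ᵁ W) (p.preimage_mono (h.trans inf_le_left))).1 ?_
        dsimp only
        rw [one_smul]
        exact hrel i i W (h.trans inf_le_left) (h.trans inf_le_right)
      rw [this, map_one])
    (fun i j k W hij hjk hik => by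
      rw [hC, hC, hC, ← map_mul]
      refine congrArg (N.norm W) ((he i (p ⁻¹ᵁ W) (p.preimage_mono (hij.trans inf_le_left))).1 ?_)
      have h1 := hrel i j W (hij.trans inf_le_left) (hij.trans inf_le_right)
      have h2 := hrel j k W (hjk.trans inf_le_left) (hjk.trans inf_le_right)
      have h3 := hrel i k W (hik.trans inf_le_left) (hik.trans inf_le_right)
      dsimp only
      rw [h3, ← h2, ← h1, smul_smul, mul_comm])
  obtain ⟨A, hA, hA', a, ha, har⟩ := exists_tensor_translates hp f hρ hL V e he Finset.univ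
    ⟨1, Finset.mem_univ _⟩
  obtain ⟨φ, -⟩ := AmpleThLib.exists_iso_gens (M := pb p M) (N := A) (fun i : Y => p ⁻¹ᵁ V i)
    (fun i => puSec p (g i)) a (fun x => ⟨p x, hyV (p x)⟩) (fun i => AmpleDevLib.puSec_genOn p (hg i)) ha
    (fun i j T hTi hTj => by
      have hT : T ≤ p ⁻¹ᵁ (V i ⊓ V j) := le_inf hTi hTj
      refine ⟨rs hT (p.app _ (C i j)), ?_, ?_⟩
      · have h1 := congrArg (fun s => res (pb p M) hT (puSec p s)) (hgr i j (V i ⊓ V j) inf_le_left inf_le_right)
        try dsimp only at h1
        rw [TwistLib.puSec_smul, res_smul, TwistLib.puSec_res, TwistLib.puSec_res, res_res, res_res] at h1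
        have e0 : rY (le_inf (inf_le_left : V i ⊓ V j ≤ V i) inf_le_right) (C i j) = C i j :=
          AmpleLib.res_refl (Coh.structureModule Y) (C i j)
        rw [e0] at h1
        exact h1
      · have h1 := congrArg (res A hT) (har i j (V i ⊓ V j) inf_le_left inf_le_right (u i j) (hu i j))
        rw [res_smul, res_res, res_res, ← app_quotNorm hp _ (u i j)] at h1
        exact h1)
  have hpb : RelAmple.IsRelAmple (p ≫ h) (pb p M) := by
    rw [hfac]
    exact ⟨hA'.1, fun W => AmpleDevLib.isAmple_of_iso (hA'.2 W).1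
      (AmpleThLib.restrict_isInvertible (AmpleDevLib.isInvertible_pb p hM) _)
      ((Scheme.Modules.restrictFunctor _).mapIso φ).symm (hA'.2 W)⟩
  exact ⟨M, NormDescLib.relAmple_of_pb p h hM (fun W => hasNorm_morphismRestrict hp _) hpb⟩

end QuotNormLib
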