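import Groth.Agent.QuotNormLib.Bundle
import Groth.Agent.QuotLib.Exists
import Groth.Agent.S2909
import Groth.Agent.S9691

/-!
# Quotients of quasi-projective schemes by finite groups
-/

set_option autoImplicit false
set_option backward.isDefEq.respectTransparency false
set_option backward.isDefEq.respectTransparency.types false
universe u

open CategoryTheory CategoryTheory.Limits AlgebraicGeometry TopologicalSpace Opposite

noncomputable section

namespace QuotNormLib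

variable {X S : Scheme.{u}} {G : Type u} [Group G] [Finite G]

theorem exists_affine_orbit (f : X ⟶ S) (ρ : G →* Aut X) (hρ : ∀ g : G, (ρ g).hom ≫ f = f) {L : X.Modules}
    (hL : RelAmple.IsRelAmple f L) (x : X) :
    ∃ U : X.Opens, IsAffineOpen U ∧ ∀ g : G, (ρ g).hom x ∈ U := by
  classical
  obtain ⟨V, hV, hxV, -⟩ := exists_isAffineOpen_mem_and_subset (x := f x) (U := (⊤ : S.Opens)) trivial
  have hmem : ∀ g : G, (ρ g).hom x ∈ f ⁻¹ᵁ V := fun g => by
    show f ((ρ g).hom x) ∈ V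
    rwa [← Scheme.Hom.comp_apply, hρ g]
  letI := Fintype.ofFinite G
  obtain ⟨U, hU, hs⟩ := AmpleThLib.exists_affineOpen_finset (hL.2 ⟨V, hV⟩)
    (Finset.univ.image fun g : G => (⟨(ρ g).hom x, hmem g⟩ : (f ⁻¹ᵁ V).toScheme))
  exact ⟨(f ⁻¹ᵁ V).ι ''ᵁ U, (f ⁻¹ᵁ V).ι.isAffineOpen_iff_of_isOpenImmersion.2 hU,
    fun g => ⟨_, hs _ (Finset.mem_image_of_mem _ (Finset.mem_univ g)), rfl⟩⟩

/-- The quotient of a quasi-projective scheme by a finite group exists and is quasi-projective. -/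
theorem exists_quot_quasiProjective [IsNoetherian S] (f : X ⟶ S) (ρ : G →* Aut X)
    (hρ : ∀ g : G, (ρ g).hom ≫ f = f) (hf : RelProj.IsQuasiProjective f) :
    ∃ (Y : Scheme.{u}) (q : X ⟶ Y) (h : Y ⟶ S), q ≫ h = f ∧ SGA1.IsQuot ρ q ∧ IsFinite q ∧
      RelProj.IsQuasiProjective h ∧ IsSeparated h := by
  obtain ⟨hft, hqc, L, hL⟩ := hf
  haveI := hft
  haveI := hqc
  obtain ⟨Y, q, hq⟩ := QuotLib.exists_quot (ρ := ρ) (exists_affine_orbit f ρ hρ hL)
  obtain ⟨h, hh⟩ := QuotLib.exists_desc hq f hρ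
  obtain ⟨-, hsep, hfin, hrest⟩ := Groth.Agent.S2909.result ρ q hq f h hh hρ
  haveI := hfin hft
  obtain ⟨hlft, hqc'⟩ := hrest inferInstance hft hqc
  haveI := hqc'
  letI := Fintype.ofFinite G
  obtain ⟨M, hM⟩ := exists_relAmple_quot hq f h hh hρ hL
  exact ⟨Y, q, h, hh, hq, inferInstance, ⟨hlft, hqc', M, hM⟩, hsep.1 (Groth.Agent.S9691.result f L hL)⟩

end QuotNormLib
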